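import Mathlib
import Groth.Prelude.Def_Mor2

/-! Quasi-affine schemes and morphisms: locality. -/

set_option autoImplicit false
set_option linter.style.haveILetI false
set_option linter.unusedVariables false
set_option backward.isDefEq.respectTransparency false
universe u

open CategoryTheory CategoryTheory.Limits AlgebraicGeometry TopologicalSpace Opposite

noncomputable section

namespace Groth.Agent.QAffLib

variable {X Y : Scheme.{u}}

theorem of_iso (e : X ⟶ Y) [IsIso e] [Y.IsQuasiAffine] : X.IsQuasiAffine := by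
  haveI : CompactSpace X := QuasiCompact.compactSpace_of_compactSpace e
  exact Scheme.IsQuasiAffine.of_isImmersion e

theorem open_of_le (U V : X.Opens) [(V : Scheme.{u}).IsQuasiAffine] (h : U ≤ V) (hU : IsCompact (U : Set X)) :
    (U : Scheme.{u}).IsQuasiAffine := by
  haveI : CompactSpace (U : Scheme.{u}) := isCompact_iff_compactSpace.mp hU
  exact Scheme.IsQuasiAffine.of_isImmersion (X.homOfLE h)

/-- A quasi-compact scheme covered by quasi-affine basic opens of global sections is quasi-affine. -/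
theorem of_forall_exists_mem_basicOpen_qa (X : Scheme.{u}) [CompactSpace X]
    (H : ∀ x : X, ∃ r : Γ(X, ⊤), (X.basicOpen r : Scheme.{u}).IsQuasiAffine ∧ x ∈ X.basicOpen r) :
    X.IsQuasiAffine := by
  choose r hr hxr using H
  haveI : QuasiSeparatedSpace X :=
    .of_isOpenCover (U := (X.basicOpen <| r ·))
      (eq_top_iff.mpr fun _ _ ↦ Opens.mem_iSup.mpr ⟨_, hxr _⟩)
      (fun _ ↦ isRetrocompact_basicOpen _) (fun x ↦ by
        haveI := hr x
        exact isQuasiSeparated_iff_quasiSeparatedSpace _ (X.basicOpen (r x)).2 |>.mpr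
          (inferInstanceAs (QuasiSeparatedSpace (X.basicOpen (r x) : Scheme.{u}))))
  refine Scheme.IsQuasiAffine.of_forall_exists_mem_basicOpen X fun x => ?_
  haveI := hr x
  set W := X.basicOpen (r x)
  obtain ⟨_, ⟨_, ⟨s, hs, rfl⟩, rfl⟩, hxs, -⟩ := (Scheme.IsQuasiAffine.isBasis_basicOpen
    (W : Scheme.{u})).exists_subset_of_mem_open (Set.mem_univ (⟨x, hxr x⟩ : W)) isOpen_univ
  let s' : Γ(X, W) := W.topIso.hom s
  have hs' : X.basicOpen s' = W.ι ''ᵁ (W : Scheme.{u}).basicOpen s := by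
    rw [Scheme.Opens.ι_image_basicOpen]
    exact X.basicOpen_res_eq s _
  obtain ⟨n, y, hy⟩ := exists_eq_pow_mul_of_isCompact_of_isQuasiSeparated X ⊤ isCompact_univ isQuasiSeparated_univ (r x) s'
  have hb : X.basicOpen (y * r x) = X.basicOpen s' := by
    have h1 := congrArg (X.basicOpen) hy
    dsimp only [TopCat.Presheaf.restrictOpenCommRingCat_apply] at h1
    rw [Scheme.basicOpen_res, Scheme.basicOpen_mul] at h1
    have h2 : W ≤ X.basicOpen ((X.presheaf.map (homOfLE (X.basicOpen_le (r x))).op (r x)) ^ n) := by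
      rcases n.eq_zero_or_pos with rfl | hn
      · rw [pow_zero, Scheme.basicOpen_of_isUnit _ isUnit_one]
      · rw [Scheme.basicOpen_pow _ _ hn, Scheme.basicOpen_res]
        exact le_of_eq (inf_idem _).symm
    rw [Scheme.basicOpen_mul, inf_comm, h1]
    exact inf_eq_right.mpr (le_trans (X.basicOpen_le s') h2)
  refine ⟨y * r x, ?_, ?_⟩
  · rw [hb, hs']; exact hs.image_of_isOpenImmersion _
  · rw [hb, hs']; exact ⟨⟨x, hxr x⟩, hxs, rfl⟩

theorem basicOpen_qa_of_qa [X.IsQuasiAffine] (r : Γ(X, ⊤)) : (X.basicOpen r : Scheme.{u}).IsQuasiAffine := by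
  haveI : CompactSpace (X.basicOpen r : Scheme.{u}) := isCompact_iff_compactSpace.mp
    (by simpa using (isRetrocompact_basicOpen r) isCompact_univ isOpen_univ)
  exact Scheme.IsQuasiAffine.of_isImmersion (X.basicOpen r).ι

theorem image_qa {f : X ⟶ Y} [IsOpenImmersion f] (U : X.Opens) [(U : Scheme.{u}).IsQuasiAffine] :
    (f ''ᵁ U : Scheme.{u}).IsQuasiAffine :=
  of_iso (f.isoImage U).inv

theorem preimage_qa {f : X ⟶ Y} [IsOpenImmersion f] (V : Y.Opens) (h : V ≤ f.opensRange)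
    [(f ⁻¹ᵁ V : Scheme.{u}).IsQuasiAffine] : (V : Scheme.{u}).IsQuasiAffine := by
  have := image_qa (f := f) (f ⁻¹ᵁ V)
  rwa [Scheme.Hom.image_preimage_eq_opensRange_inf, inf_eq_right.mpr h] at this

theorem qc_preimage (f : X ⟶ Y) [QuasiCompact f] {V : Y.Opens} (hV : IsAffineOpen V) :
    IsCompact ((f ⁻¹ᵁ V : X.Opens) : Set X) :=
  QuasiCompact.isCompact_preimage (f := f) _ V.2 hV.isCompact

/-- Locality on the target of quasi-affine morphisms. -/
theorem isQuasiAffine_of_cover (f : X ⟶ Y) [QuasiCompact f]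
    (H : ∀ y : Y, ∃ V : Y.Opens, IsAffineOpen V ∧ y ∈ V ∧ (f ⁻¹ᵁ V : Scheme.{u}).IsQuasiAffine) :
    Mor2.IsQuasiAffine f := by
  refine ⟨inferInstance, fun U hU => ?_⟩
  haveI : CompactSpace (f ⁻¹ᵁ U : Scheme.{u}) := isCompact_iff_compactSpace.mp (qc_preimage f hU)
  refine of_forall_exists_mem_basicOpen_qa _ fun x => ?_
  obtain ⟨V, hV, hxV, hqa⟩ := H (f x.1)
  obtain ⟨r, s, e, hr⟩ := exists_basicOpen_le_affine_inter hU hV _ ⟨x.2, hxV⟩
  set R : Γ((f ⁻¹ᵁ U : X.Opens), ⊤) := (f ⁻¹ᵁ U).topIso.inv (f.app U r)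
  have hR : (f ⁻¹ᵁ U : Scheme.{u}).basicOpen R = (f ⁻¹ᵁ U).ι ⁻¹ᵁ (f ⁻¹ᵁ Y.basicOpen r) := by
    rw [Scheme.preimage_basicOpen f r, ← Scheme.Opens.ι_image_basicOpen_topIso_inv (U := f ⁻¹ᵁ U) (r := f.app U r),
      Scheme.Hom.preimage_image_eq]
  refine ⟨R, ?_, ?_⟩
  · haveI h1 : (f ⁻¹ᵁ Y.basicOpen r : Scheme.{u}).IsQuasiAffine := by
      haveI := hqa
      exact open_of_le _ (f ⁻¹ᵁ V) (f.preimage_mono (e.le.trans (Y.basicOpen_le s))) (qc_preimage f (hU.basicOpen r))
    rw [hR]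
    haveI : CompactSpace (((f ⁻¹ᵁ U).ι ⁻¹ᵁ (f ⁻¹ᵁ Y.basicOpen r) : (f ⁻¹ᵁ U : Scheme.{u}).Opens) : Scheme.{u}) := by
      refine isCompact_iff_compactSpace.mp ?_
      refine (f ⁻¹ᵁ U).ι.isOpenEmbedding.isInducing.isCompact_preimage' (qc_preimage f (hU.basicOpen r)) ?_
      rw [Scheme.Opens.range_ι]
      exact f.preimage_mono (Y.basicOpen_le r)
    exact Scheme.IsQuasiAffine.of_isImmersion ((f ⁻¹ᵁ U).ι ∣_ (f ⁻¹ᵁ Y.basicOpen r))
  · rw [hR]; exact hr

/-- The source of a quasi-affine morphism to a quasi-affine scheme is quasi-affine. -/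
theorem qa_source (f : X ⟶ Y) (hf : Mor2.IsQuasiAffine f) [Y.IsQuasiAffine] : X.IsQuasiAffine := by
  haveI := hf.1
  haveI : CompactSpace X := QuasiCompact.compactSpace_of_compactSpace f
  refine of_forall_exists_mem_basicOpen_qa X fun x => ?_
  obtain ⟨_, ⟨_, ⟨r, hr, rfl⟩, rfl⟩, hxr, -⟩ :=
    (Scheme.IsQuasiAffine.isBasis_basicOpen Y).exists_subset_of_mem_open (Set.mem_univ (f x)) isOpen_univ
  refine ⟨f.appTop r, ?_, ?_⟩
  · rw [← Scheme.preimage_basicOpen_top]; exact hf.2 _ hr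
  · rw [← Scheme.preimage_basicOpen_top]; exact hxr

end Groth.Agent.QAffLib
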